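import Cfsg.Agent.H815.Rl.PslNine
import Cfsg.Agent.H895.SLT.ResCard
import Cfsg.Agent.H895.SLT.Sigma
import Cfsg.Agent.H956.UnitSim
import Cfsg.Agent.H251.GeoCardB
import Cfsg.Agent.H304.PpdClass
import Cfsg.Agent.H951.Rl.ExtSL
import Cfsg.Agent.H951.Rl.Sim
import Cfsg.Agent.H2.Rb.StructA
import Cfsg.Agent.S5775
import Cfsg.Agent.S5776
import Cfsg.Agent.S0277

/-!
# S3691, PSL-13: `PSL_3(q)`: orders of the maximal subgroups of `SL_3(q)` (helper910)

* `red_or_le` : a maximal subgroup of `SL_3(q)`, `q > 8000`, is reducible or small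
-/

set_option autoImplicit false

namespace Cfsg.Agent.H910.Rl

theorem exp_lt : ∀ f : ℕ, 15 ≤ f → 36 * f ^ 2 + 4 ≤ 2 ^ f := by
  intro f hf
  induction f, hf using Nat.le_induction with
  | base => norm_num
  | succ n hn ih =>
    have e1 : 2 ^ (n + 1) = 2 * 2 ^ n := by rw [pow_succ]; ring
    rw [e1]
    nlinarith

/-- the exponent is small -/
theorem exp_le {p f q : ℕ} (hp : 2 ≤ p) (hF : q = p ^ f) (hq : 8000 < q) : 36 * f ^ 2 + 4 ≤ q := by
  rcases Nat.lt_or_ge f 15 with h | h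
  · have h1 : f ^ 2 ≤ 14 ^ 2 := Nat.pow_le_pow_left (by omega) 2
    omega
  · have h1 := exp_lt f h
    have h2 : 2 ^ f ≤ p ^ f := Nat.pow_le_pow_left hp f
    omega

/-- the order of `SL_3(q)`, lower bound -/
theorem low {q : ℕ} (hq : 2 ≤ q) : q ^ 5 * (q - 2) ≤ (q - 1) * (q ^ 2 - 1) * (q ^ 3 - 1) := by
  obtain ⟨x, rfl⟩ : ∃ x, q = x + 2 := ⟨q - 2, by omega⟩
  have e1 : (x + 2) ^ 2 - 1 = x ^ 2 + 4 * x + 3 := by
    have : (x + 2) ^ 2 = x ^ 2 + 4 * x + 3 + 1 := by ring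
    omega
  have e2 : (x + 2) ^ 3 - 1 = x ^ 3 + 6 * x ^ 2 + 12 * x + 7 := by
    have : (x + 2) ^ 3 = x ^ 3 + 6 * x ^ 2 + 12 * x + 7 + 1 := by ring
    omega
  rw [e1, e2, show x + 2 - 2 = x by omega, show x + 2 - 1 = x + 1 by omega]
  nlinarith [sq_nonneg x, Nat.zero_le (x ^ 3), Nat.zero_le (x ^ 4), Nat.zero_le (x ^ 5)]

theorem kill_small {q f B : ℕ} (hq : 8000 < q) (hf : 36 * f ^ 2 + 4 ≤ q) (hB : B ≤ 6 * q ^ 4)
    (h : q ^ 5 * (q - 2) ≤ 6 * f * B) : False := by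
  have h1 : q ^ 5 * (q - 2) ≤ 6 * f * (6 * q ^ 4) := h.trans (Nat.mul_le_mul_left _ hB)
  have h2 : q * (q - 2) ≤ 36 * f := by
    have h3 : q ^ 4 * (q * (q - 2)) ≤ q ^ 4 * (36 * f) := by
      calc q ^ 4 * (q * (q - 2)) = q ^ 5 * (q - 2) := by ring
        _ ≤ _ := h1
        _ = q ^ 4 * (36 * f) := by ring
    exact Nat.le_of_mul_le_mul_left h3 (by positivity)
  obtain ⟨x, rfl⟩ : ∃ x, q = x + 2 := ⟨q - 2, by omega⟩
  rw [Nat.add_sub_cancel] at h2
  have h3 : 36 * f ≤ 36 * f ^ 2 := Nat.mul_le_mul_left _ (Nat.le_self_pow (by norm_num) f)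
  nlinarith

theorem kill_six {q q0 f B : ℕ} (hq : 8000 < q) (hf : 36 * f ^ 2 + 4 ≤ q) (h0 : q = q0 ^ 2) (hB : B ≤ 6 * q0 ^ 9)
    (h : q ^ 5 * (q - 2) ≤ 6 * f * B) : False := by
  have h1 : q ^ 5 * (q - 2) ≤ 6 * f * (6 * q0 ^ 9) := h.trans (Nat.mul_le_mul_left _ hB)
  have hq0 : 0 < q0 := by
    rcases Nat.eq_zero_or_pos q0 with h2 | h2
    · rw [h2] at h0; omega
    · exact h2
  have h2 : q0 * (q - 2) ≤ 36 * f := by
    have h3 : q0 ^ 9 * (q0 * (q - 2)) ≤ q0 ^ 9 * (36 * f) := by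
      calc q0 ^ 9 * (q0 * (q - 2)) = q ^ 5 * (q - 2) := by rw [h0]; ring
        _ ≤ _ := h1
        _ = q0 ^ 9 * (36 * f) := by ring
    exact Nat.le_of_mul_le_mul_left h3 (by positivity)
  have h3 : 36 * f ≤ 36 * f ^ 2 := Nat.mul_le_mul_left _ (Nat.le_self_pow (by norm_num) f)
  have hq2 : 2 ≤ q0 := by
    by_contra hcon
    have : q0 = 1 := by omega
    rw [this] at h0
    omega
  have h4 : 2 * (q - 2) ≤ q0 * (q - 2) := Nat.mul_le_mul_right _ hq2
  omega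

theorem kill_sub {q q0 f B : ℕ} (hq : 8000 < q) (hf : 36 * f ^ 2 + 4 ≤ q) (h0 : q0 ^ 2 ≤ q)
    (hB : B ≤ q0 ^ 9 * (q - 1)) (h : q ^ 5 * (q - 2) ≤ 6 * f * B) : False := by
  have h1 : q ^ 5 * (q - 2) ≤ 6 * f * (q0 ^ 9 * (q - 1)) := h.trans (Nat.mul_le_mul_left _ hB)
  have h2 : (q ^ 5 * (q - 2)) ^ 2 ≤ (6 * f * (q0 ^ 9 * (q - 1))) ^ 2 := Nat.pow_le_pow_left h1 2
  have h3 : (q0 ^ 9) ^ 2 ≤ q ^ 9 := by
    calc (q0 ^ 9) ^ 2 = (q0 ^ 2) ^ 9 := by ring
      _ ≤ q ^ 9 := Nat.pow_le_pow_left h0 9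
  have h4 : q * (q - 2) ^ 2 ≤ 36 * f ^ 2 * (q - 1) ^ 2 := by
    have h5 : q ^ 9 * (q * (q - 2) ^ 2) ≤ q ^ 9 * (36 * f ^ 2 * (q - 1) ^ 2) := by
      calc q ^ 9 * (q * (q - 2) ^ 2) = (q ^ 5 * (q - 2)) ^ 2 := by ring
        _ ≤ _ := h2
        _ = (q0 ^ 9) ^ 2 * (36 * f ^ 2 * (q - 1) ^ 2) := by ring
        _ ≤ _ := Nat.mul_le_mul_right _ h3
    exact Nat.le_of_mul_le_mul_left h5 (by positivity)
  have h6 : 36 * f ^ 2 ≤ q - 4 := by omega
  have h7 : q * (q - 2) ^ 2 ≤ (q - 4) * (q - 1) ^ 2 := h4.trans (Nat.mul_le_mul_right _ h6)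
  obtain ⟨x, rfl⟩ : ∃ x, q = x + 4 := ⟨q - 4, by omega⟩
  rw [show x + 4 - 2 = x + 2 by omega, show x + 4 - 4 = x by omega, show x + 4 - 1 = x + 3 by omega] at h7
  nlinarith

/-- the order of the unitary group -/
theorem gu_le {q0 : ℕ} (h : 2 ≤ q0) : q0 ^ 3 * ((q0 + 1) * (q0 ^ 2 - 1) * (q0 ^ 3 + 1)) ≤ 2 * q0 ^ 9 := by
  have h1 : q0 ^ 2 - 1 ≤ q0 ^ 2 := Nat.sub_le _ _
  have e : (q0 + 1) * (q0 ^ 2 - 1) * (q0 ^ 3 + 1) ≤ 2 * q0 ^ 6 := by
    obtain ⟨x, rfl⟩ : ∃ x, q0 = x + 2 := ⟨q0 - 2, by omega⟩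
    have e1 : (x + 2) ^ 2 - 1 = x ^ 2 + 4 * x + 3 := by
      have : (x + 2) ^ 2 = x ^ 2 + 4 * x + 3 + 1 := by ring
      omega
    rw [e1]
    nlinarith [sq_nonneg x, Nat.zero_le (x ^ 3), Nat.zero_le (x ^ 4), Nat.zero_le (x ^ 5), Nat.zero_le (x ^ 6)]
  calc q0 ^ 3 * ((q0 + 1) * (q0 ^ 2 - 1) * (q0 ^ 3 + 1)) ≤ q0 ^ 3 * (2 * q0 ^ 6) := Nat.mul_le_mul_left _ e
    _ = 2 * q0 ^ 9 := by ring

theorem block_index {q f i R : ℕ} (hq : 8000 < q) (hf : 36 * f ^ 2 + 4 ≤ q)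
    (h : (q - 1) * (q ^ 2 - 1) * (q ^ 3 - 1) ≤ 6 * f * (q ^ 2 * R))
    (hi : R * i = (q ^ 2 - 1) * (q ^ 2 - q)) : i ≤ q := by
  have hq1 : 1 ≤ q := by omega
  have h2 : q ^ 2 - q = q * (q - 1) := by rw [Nat.mul_sub, mul_one, pow_two]
  rw [h2] at hi
  have hpos : 0 < (q - 1) * (q ^ 2 - 1) := by
    have : 1 ^ 2 < q ^ 2 := Nat.pow_lt_pow_left (by omega) (by norm_num)
    exact Nat.mul_pos (by omega) (by omega)
  have h3 : ((q - 1) * (q ^ 2 - 1)) * ((q ^ 3 - 1) * i) ≤ ((q - 1) * (q ^ 2 - 1)) * (6 * f * q ^ 3) := by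
    calc ((q - 1) * (q ^ 2 - 1)) * ((q ^ 3 - 1) * i) = (q - 1) * (q ^ 2 - 1) * (q ^ 3 - 1) * i := by ring
      _ ≤ 6 * f * (q ^ 2 * R) * i := Nat.mul_le_mul_right _ h
      _ = 6 * f * q ^ 2 * (R * i) := by ring
      _ = 6 * f * q ^ 2 * ((q ^ 2 - 1) * (q * (q - 1))) := by rw [hi]
      _ = ((q - 1) * (q ^ 2 - 1)) * (6 * f * q ^ 3) := by ring
  have h4 := Nat.le_of_mul_le_mul_left h3 hpos
  by_contra hcon
  push Not at hcon
  have h5 : (q ^ 3 - 1) * (q + 1) ≤ 6 * f * q ^ 3 := (Nat.mul_le_mul_left _ hcon).trans h4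
  have h6 : 6 * f ≤ q := by nlinarith
  have h7 : (q ^ 3 - 1) * (q + 1) ≤ q * q ^ 3 := h5.trans (Nat.mul_le_mul_right _ h6)
  obtain ⟨y, hy⟩ : ∃ y, q ^ 3 = y + 1 := ⟨q ^ 3 - 1, by have : 1 ≤ q ^ 3 := Nat.one_le_pow _ _ hq1; omega⟩
  rw [hy, Nat.add_sub_cancel] at h7
  have h8 : q < y := by
    have h9 : q * 8000 ≤ q ^ 3 := by
      calc q * 8000 ≤ q * q ^ 2 := Nat.mul_le_mul_left _ (by nlinarith)
        _ = q ^ 3 := by ring
    omega
  nlinarith

open Cfsg Cfsg.Geo Matrix Cfsg.Agent.H728.DghpNum Cfsg.Agent.H251.GeoCard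
open Cfsg.Agent.H304.Ppd
open scoped MatrixGroups

section ord

variable {F : Type} [Field F]

theorem closure_eq {R : Type*} [Group R] [Finite R] (hR : Nat.card R = 27) {a b : R} (hab : a * b ≠ b * a) :
    Subgroup.closure {a, b} = ⊤ := by
  set A := Subgroup.closure {a, b} with hA
  have haA : a ∈ A := Subgroup.subset_closure (by simp)
  have hbA : b ∈ A := Subgroup.subset_closure (by simp)
  have h1 : Nat.card A ∣ 3 ^ 3 := by
    have h2 := Subgroup.card_subgroup_dvd_card A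
    rw [hR] at h2
    exact h2
  obtain ⟨k, hk, hc⟩ := (Nat.dvd_prime_pow Nat.prime_three).1 h1
  have hfact : Fact (Nat.Prime 3) := ⟨Nat.prime_three⟩
  have hcomm : ¬ IsMulCommutative A := by
    intro h
    exact hab (congrArg Subtype.val (h.is_comm.comm (⟨a, haA⟩ : A) ⟨b, hbA⟩))
  have hk3 : k = 3 := by
    by_contra hne
    apply hcomm
    have hk2 : k = 0 ∨ k = 1 ∨ k = 2 := by omega
    rcases hk2 with rfl | rfl | rfl
    · have : Subsingleton A := (Nat.card_eq_one_iff_unique.1 (by rw [hc, pow_zero])).1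
      exact ⟨⟨fun x y => Subsingleton.elim _ _⟩⟩
    · rw [pow_one] at hc
      have hcy : IsCyclic A := isCyclic_of_prime_card hc
      exact IsCyclic.isMulCommutative
    · exact IsPGroup.isMulCommutative_of_card_eq_prime_sq hc
  apply Subgroup.eq_top_of_card_eq
  rw [hc, hk3, hR]
  norm_num

/-- the cubes -/
theorem card_cube [Finite F] : Nat.card {c : F // c ^ 3 = 1} ≤ 3 := by
  classical
  have := Fintype.ofFinite F
  rw [Nat.card_eq_fintype_card, Fintype.card_subtype]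
  have h1 : (Finset.univ.filter fun c : F => c ^ 3 = 1) ⊆ (Polynomial.nthRoots 3 (1 : F)).toFinset := by
    intro c hc
    rw [Multiset.mem_toFinset, Polynomial.mem_nthRoots (by norm_num)]
    exact (Finset.mem_filter.1 hc).2
  exact (Finset.card_le_card h1).trans ((Multiset.toFinset_card_le _).trans (Polynomial.card_nthRoots _ _))

theorem det_one {g : GL (Fin 3) F} (hg : g ∈ specialLinear (Fin 3) F) : (g : Matrix (Fin 3) (Fin 3) F).det = 1 := by
  have h := congrArg Units.val (MonoidHom.mem_ker.1 hg)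
  exact h

/-- the normaliser of an extraspecial group of order `27` -/
theorem norm_le [Finite F] {R : Subgroup (GL (Fin 3) F)} (hR : Nat.card R = 27)
    (habs : ActsAbsolutelyIrreducibly (matrixSet R)) {a b : GL (Fin 3) F} (ha : a ∈ R) (hb : b ∈ R)
    (hab : a * b ≠ b * a) :
    Nat.card (subgroupNormalizer R ⊓ specialLinear (Fin 3) F : Subgroup (GL (Fin 3) F)) ≤ 2187 := by
  classical
  have hfin : Finite (GL (Fin 3) F) := inferInstance
  set S : Subgroup (GL (Fin 3) F) := subgroupNormalizer R ⊓ specialLinear (Fin 3) F with hS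
  set I : Subgroup (GL (Fin 3) F) := Subgroup.centralizer (R : Set (GL (Fin 3) F)) ⊓ specialLinear (Fin 3) F with hI
  have hcl : Subgroup.closure ({⟨a, ha⟩, ⟨b, hb⟩} : Set R) = ⊤ :=
    closure_eq hR (fun h => hab (congrArg Subtype.val h))
  have hconj : ∀ (x : S) (r : GL (Fin 3) F), r ∈ R → (x : GL (Fin 3) F) * r * (x : GL (Fin 3) F)⁻¹ ∈ R :=
    fun x r hr => (x.2.1 r).1 hr
  have hIc : Nat.card I ≤ 3 := by
    have hsc : ∀ x : I, ∃ c : F, c ^ 3 = 1 ∧ ((x : GL (Fin 3) F) : Matrix (Fin 3) (Fin 3) F) = c • 1 := by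
      intro x
      obtain ⟨c, hc⟩ := habs.2 ((x : GL (Fin 3) F) : Matrix (Fin 3) (Fin 3) F) (by
        rintro _ ⟨r, hr, rfl⟩
        have h1 := Subgroup.mem_centralizer_iff.1 x.2.1 r hr
        exact (congrArg Units.val h1).symm)
      refine ⟨c, ?_, hc⟩
      have h1 := det_one x.2.2
      rw [hc, Matrix.det_smul, Matrix.det_one, mul_one, Fintype.card_fin] at h1
      exact h1
    choose c hc3 hc using hsc
    refine (Nat.card_le_card_of_injective (fun x : I => (⟨c x, hc3 x⟩ : {c : F // c ^ 3 = 1})) ?_).trans card_cube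
    intro x y hxy
    have hcc : c x = c y := congrArg (fun z : {c : F // c ^ 3 = 1} => (z : F)) hxy
    apply Subtype.ext
    apply Units.ext
    rw [hc, hc, hcc]
  have h1 := H951.Rl.card_le_mul S I (X := R × R)
    (fun x => (⟨_, hconj x a ha⟩, ⟨_, hconj x b hb⟩)) (by
      intro x y hxy
      have e1 : (x : GL (Fin 3) F) * a * (x : GL (Fin 3) F)⁻¹ = y * a * (y : GL (Fin 3) F)⁻¹ :=
        congrArg (fun z : R × R => (z.1 : GL (Fin 3) F)) hxy
      have e2 : (x : GL (Fin 3) F) * b * (x : GL (Fin 3) F)⁻¹ = y * b * (y : GL (Fin 3) F)⁻¹ :=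
        congrArg (fun z : R × R => (z.2 : GL (Fin 3) F)) hxy
      refine ⟨?_, Subgroup.mul_mem _ (Subgroup.inv_mem _ x.2.2) y.2.2⟩
      set z : GL (Fin 3) F := (x : GL (Fin 3) F)⁻¹ * y with hz
      have hza : z * a = a * z := by
        have h2 : (x : GL (Fin 3) F)⁻¹ * (x * a * (x : GL (Fin 3) F)⁻¹) * y =
            (x : GL (Fin 3) F)⁻¹ * (y * a * (y : GL (Fin 3) F)⁻¹) * y := by rw [e1]
        have h3 : (x : GL (Fin 3) F)⁻¹ * (x * a * (x : GL (Fin 3) F)⁻¹) * y = a * z := by rw [hz]; group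
        have h4 : (x : GL (Fin 3) F)⁻¹ * (y * a * (y : GL (Fin 3) F)⁻¹) * y = z * a := by rw [hz]; group
        rw [← h3, h2, h4]
      have hzb : z * b = b * z := by
        have h2 : (x : GL (Fin 3) F)⁻¹ * (x * b * (x : GL (Fin 3) F)⁻¹) * y =
            (x : GL (Fin 3) F)⁻¹ * (y * b * (y : GL (Fin 3) F)⁻¹) * y := by rw [e2]
        have h3 : (x : GL (Fin 3) F)⁻¹ * (x * b * (x : GL (Fin 3) F)⁻¹) * y = b * z := by rw [hz]; group
        have h4 : (x : GL (Fin 3) F)⁻¹ * (y * b * (y : GL (Fin 3) F)⁻¹) * y = z * b := by rw [hz]; group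
        rw [← h3, h2, h4]
      change z ∈ Subgroup.centralizer (R : Set (GL (Fin 3) F))
      rw [Subgroup.mem_centralizer_iff]
      have hle : Subgroup.closure ({⟨a, ha⟩, ⟨b, hb⟩} : Set R) ≤ (Subgroup.centralizer {z}).comap R.subtype := by
        rw [Subgroup.closure_le]
        rintro w (rfl | hw)
        · change a ∈ Subgroup.centralizer {z}
          rw [Subgroup.mem_centralizer_singleton_iff]
          exact hza.symm
        · rw [Set.mem_singleton_iff] at hw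
          subst hw
          change b ∈ Subgroup.centralizer {z}
          rw [Subgroup.mem_centralizer_singleton_iff]
          exact hzb.symm
      rw [hcl] at hle
      intro r hr
      have h5 : r ∈ Subgroup.centralizer {z} := hle (Subgroup.mem_top (⟨r, hr⟩ : R))
      exact Subgroup.mem_centralizer_singleton_iff.1 h5)
  rw [Nat.card_prod, hR] at h1
  calc Nat.card S ≤ 27 * 27 * Nat.card I := h1
    _ ≤ 27 * 27 * 3 := Nat.mul_le_mul_left _ hIc
    _ = 2187 := by norm_num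

/-- the isometries of a unitary form -/
theorem isom_conj {q0 : ℕ} {f : (Fin 3 → F) → (Fin 3 → F) → F} {P : GL (Fin 3) F}
    (hP : ∀ u v : Fin 3 → F, f ((P : Matrix (Fin 3) (Fin 3) F) *ᵥ u) ((P : Matrix (Fin 3) (Fin 3) F) *ᵥ v) =
      Cfsg.hermForm 3 F q0 u v) {x : GL (Fin 3) F}
    (hx : ∀ u v, f ((x : Matrix (Fin 3) (Fin 3) F) *ᵥ u) ((x : Matrix (Fin 3) (Fin 3) F) *ᵥ v) = f u v) :
    P⁻¹ * x * P ∈ GU 3 F q0 := by
  intro u v
  change hermForm 3 F q0 (((P⁻¹ * x * P : GL (Fin 3) F) : Matrix (Fin 3) (Fin 3) F) *ᵥ u)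
    (((P⁻¹ * x * P : GL (Fin 3) F) : Matrix (Fin 3) (Fin 3) F) *ᵥ v) = _
  rw [← hP, ← hP, mulVec_mulVec, mulVec_mulVec, ← Units.val_mul]
  have e : P * (P⁻¹ * x * P) = x * P := by group
  rw [e, Units.val_mul, ← mulVec_mulVec, ← mulVec_mulVec, hx]

theorem card_gu [Fintype F] {q0 : ℕ} (hF : Fintype.card F = q0 ^ 2) :
    Nat.card (GU 3 F q0) = q0 ^ 3 * ((q0 + 1) * (q0 ^ 2 - 1) * (q0 ^ 3 + 1)) := by
  rw [S0277.result hF, Finset.prod_range_succ, Finset.prod_range_succ, Finset.prod_range_one]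
  norm_num

theorem pow_of [Fintype F] {σ : F ≃+* F} {f : (Fin 3 → F) → (Fin 3 → F) → F} (hf : IsUnitaryForm σ f) {q0 : ℕ}
    (hσ : ∀ x, σ x = x ^ q0) : IsUnitaryFormPow q0 f :=
  ⟨hf.add_left, hf.smul_left, fun v w => by rw [← hσ]; exact hf.herm v w, hf.nondegenerate⟩

/-- the order of the unitary similarity group -/
theorem unit_le [Fintype F] {σ : F ≃+* F} {f : (Fin 3 → F) → (Fin 3 → F) → F} (hf : IsUnitaryForm σ f) :
    ∃ q0 : ℕ, Fintype.card F = q0 ^ 2 ∧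
      Nat.card (similarityGroup f ⊓ specialLinear (Fin 3) F : Subgroup (GL (Fin 3) F)) ≤ 6 * q0 ^ 9 := by
  classical
  have hfin : Finite (GL (Fin 3) F) := inferInstance
  obtain ⟨q0, hF, hσ⟩ := H895.SLT.unitary_sigma hf.involutive hf.ne_refl
  have hfp := pow_of hf hσ
  obtain ⟨P, hP⟩ := H956.UnitSim.exists_frame (n := 3) hF hfp
  refine ⟨q0, hF, ?_⟩
  have hq0 : 2 ≤ q0 := by
    have h1 : 2 ≤ Fintype.card F := Fintype.one_lt_card
    by_contra hcon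
    have h2 : q0 = 0 ∨ q0 = 1 := by omega
    rcases h2 with rfl | rfl <;> omega
  set S : Subgroup (GL (Fin 3) F) := similarityGroup f ⊓ specialLinear (Fin 3) F with hS
  set I : Subgroup (GL (Fin 3) F) := (GU 3 F q0).map (MulAut.conj P).toMonoidHom with hI
  have hIc : Nat.card I ≤ 2 * q0 ^ 9 := by
    rw [hI, Subgroup.card_map_of_injective (MulAut.conj P).injective, card_gu hF]
    exact gu_le hq0
  have hc : ∀ x : S, ∃ c : F, c ^ 3 = 1 ∧ c ≠ 0 ∧ ∀ u v, f (((x : GL (Fin 3) F) : Matrix (Fin 3) (Fin 3) F) *ᵥ u)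
      (((x : GL (Fin 3) F) : Matrix (Fin 3) (Fin 3) F) *ᵥ v) = c * f u v := by
    intro x
    obtain ⟨c, hc⟩ := x.2.1
    exact ⟨c, ((H895.SLT.Sesq.of_unitary hf).sim x.2.2 hc).1, c.ne_zero, hc⟩
  choose c hc3 hc0 hc using hc
  have h1 := H951.Rl.card_le_mul S I (X := {c : F // c ^ 3 = 1}) (fun x => ⟨c x, hc3 x⟩) (by
    intro x y hxy
    have hcc : c x = c y := congrArg Subtype.val hxy
    have h2 : ∀ u v, f ((((x : GL (Fin 3) F)⁻¹ * y : GL (Fin 3) F) : Matrix (Fin 3) (Fin 3) F) *ᵥ u)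
        ((((x : GL (Fin 3) F)⁻¹ * y : GL (Fin 3) F) : Matrix (Fin 3) (Fin 3) F) *ᵥ v) = f u v := by
      intro u v
      have h3 := hc x ((((x : GL (Fin 3) F)⁻¹ * y : GL (Fin 3) F) : Matrix (Fin 3) (Fin 3) F) *ᵥ u)
        ((((x : GL (Fin 3) F)⁻¹ * y : GL (Fin 3) F) : Matrix (Fin 3) (Fin 3) F) *ᵥ v)
      rw [mulVec_mulVec, mulVec_mulVec, ← Units.val_mul, mul_inv_cancel_left, hc y, hcc] at h3
      exact (mul_left_cancel₀ (hc0 y) h3).symm
    refine ⟨_, isom_conj hP h2, ?_⟩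
    change P * (P⁻¹ * ((x : GL (Fin 3) F)⁻¹ * y) * P) * P⁻¹ = _
    group)
  calc Nat.card S ≤ _ := h1
    _ ≤ 3 * (2 * q0 ^ 9) := Nat.mul_le_mul card_cube hIc
    _ = 6 * q0 ^ 9 := by ring

/-- the order of the subfield groups -/
theorem sub_le [Fintype F] {F₀ : Subfield F} {r : ℕ} (hr : r.Prime) (hcard : Fintype.card F = Nat.card F₀ ^ r)
    (P : GL (Fin 3) F) :
    Nat.card F₀ ^ 2 ≤ Fintype.card F ∧ Nat.card (subfieldSubgroup F₀ P) ≤ Nat.card F₀ ^ 9 * (Fintype.card F - 1) := by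
  classical
  have hF0 : Finite F₀ := inferInstance
  have := Fintype.ofFinite F₀
  have h0 : 0 < Nat.card F₀ := Nat.card_pos
  have hq : 2 ≤ Fintype.card F := Fintype.one_lt_card
  refine ⟨?_, ?_⟩
  · rw [hcard]
    exact Nat.pow_le_pow_right h0 hr.two_le
  · have h1 := Nat.le_of_dvd (Nat.mul_pos Nat.card_pos (by rw [Nat.card_eq_fintype_card]; omega))
      (subfield_card_dvd F₀ P)
    refine h1.trans ?_
    rw [Nat.card_eq_fintype_card (α := F)]
    refine Nat.mul_le_mul_right _ ?_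
    have h2 : Nat.card (GL (Fin 3) F₀) ≤ Nat.card (Matrix (Fin 3) (Fin 3) F₀) :=
      Nat.card_le_card_of_injective (fun g : GL (Fin 3) F₀ => (g : Matrix (Fin 3) (Fin 3) F₀)) (fun _ _ h => Units.ext h)
    refine h2.trans (le_of_eq ?_)
    rw [Matrix, Nat.card_fun, Nat.card_fun, Nat.card_eq_fintype_card (α := Fin 3), Fintype.card_fin, ← pow_mul]

/-- extraspecial data (after `H895.SLT.data_card`) -/
theorem data27 [Fintype F] {R : Subgroup (GL (Fin 3) F)} (hR : IsLinearSymplecticTypeData 3 R) :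
    Nat.card R = 27 ∧ (∀ g ∈ R, g ^ 3 = 1) ∧ ∃ a ∈ R, ∃ b ∈ R, a * b ≠ b * a := by
  obtain ⟨hs, habs, p, e, -, -, h⟩ := hR
  have hfin : Finite (GL (Fin 3) F) := inferInstance
  rcases h with ⟨-, -, hZ, m, hm, hcard⟩ | ⟨h, -⟩ | ⟨h, -⟩
  · have h1 := H921.card_eq_pow_of_center_prime hs habs hZ hcard
    rw [Fintype.card_fin] at h1
    have hm1 : m = 1 := by
      rcases Nat.lt_or_ge m 2 with h2 | h2
      · omega
      · have : 3 ^ 2 ≤ 3 ^ m := Nat.pow_le_pow_right (by norm_num) h2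
        omega
    subst hm1
    have hc : Nat.card R = 27 := by rw [hcard]; norm_num
    refine ⟨hc, ?_, ?_⟩
    · intro g hg
      have h2 : Monoid.exponent R = 3 := by rw [hs.exponent_eq]; norm_num
      have h3 := Monoid.pow_exponent_eq_one (⟨g, hg⟩ : R)
      rw [h2] at h3
      exact congrArg Subtype.val h3
    · by_contra hcon
      push Not at hcon
      have h2 : Subgroup.center R = ⊤ := by
        rw [Subgroup.eq_top_iff']
        intro a
        rw [Subgroup.mem_center_iff]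
        intro b
        exact Subtype.ext (hcon b b.2 a a.2)
      rw [h2, Subgroup.card_top, hc] at hZ
      omega
  · omega
  · omega

/-- the order of the field extension groups -/
theorem ext_le [Fintype F] {K : Subalgebra F (Matrix (Fin 3) (Fin 3) F)} (hK : IsFieldSubalgebra 3 K) :
    Nat.card (subalgebraNormalizer K ⊓ specialLinear (Fin 3) F : Subgroup (GL (Fin 3) F)) * (Fintype.card F - 1) ≤
      3 * Fintype.card F ^ 3 := by
  have h1 := H951.Rl.card_ext_sl_le hK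
  rwa [Fintype.card_fin, show 3 ^ 2 / 3 = 3 by norm_num] at h1

/-- the orders of the irreducible maximal subgroups of `SL_3(q)` -/
theorem red_or_le [Fintype F] (hq : 8000 < Fintype.card F) {H : Subgroup (GL (Fin 3) F)}
    (hH : IsMaximalIn (specialLinear (Fin 3) F) H) :
    (∃ W : Submodule F (Fin 3 → F), W ≠ ⊥ ∧ W ≠ ⊤ ∧ H ≤ subspaceStabilizer W) ∨
    Nat.card H ≤ 6 * Fintype.card F ^ 4 ∨
    (∃ q0 : ℕ, Fintype.card F = q0 ^ 2 ∧ Nat.card H ≤ 6 * q0 ^ 9) ∨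
    (∃ q0 : ℕ, q0 ^ 2 ≤ Fintype.card F ∧ Nat.card H ≤ q0 ^ 9 * (Fintype.card F - 1)) := by
  classical
  have hfin : Finite (GL (Fin 3) F) := inferInstance
  set q := Fintype.card F with hqd
  have hq4 : 8000 * 8000 ≤ q ^ 4 := by nlinarith [Nat.pow_le_pow_left hq.le 2, Nat.pow_le_pow_left hq.le 4]
  have hle : ∀ {A B : Subgroup (GL (Fin 3) F)}, A ≤ B → Nat.card A ≤ Nat.card B := fun h => Subgroup.card_le_of_le h
  rcases S5775.result H hH with ⟨W, h0, h1, rfl⟩ | ⟨-, D, hD, rfl⟩ | ⟨-, K, hK, rfl⟩ | ⟨F₀, r, P, hr, hcard, rfl⟩ |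
    ⟨p', R', hp', hF', hp3', hR', rfl⟩ | ⟨-, Q', hQ', rfl⟩ | ⟨σ, f, hf, rfl⟩ | hres
  · exact Or.inl ⟨W, h0, h1, inf_le_left⟩
  · right; left
    have h1 := H2.Rb.C100.card_le_of_decomp hD
    rw [Nat.card_eq_fintype_card (α := F), ← hqd] at h1
    calc _ ≤ Nat.card (decompositionStabilizer D) := hle inf_le_left
      _ ≤ (q - 1) ^ 3 * Nat.factorial 3 := h1
      _ ≤ q ^ 3 * 6 := Nat.mul_le_mul (Nat.pow_le_pow_left (Nat.sub_le _ _) 3) (by decide)
      _ ≤ 6 * q ^ 4 := by rw [mul_comm]; exact Nat.mul_le_mul_left _ (Nat.pow_le_pow_right (by omega) (by norm_num))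
  · right; left
    have h1 := ext_le hK
    have h2 : 3 * q ^ 3 ≤ (6 * q ^ 4) := by
      calc 3 * q ^ 3 ≤ 6 * (q * q ^ 3) := Nat.mul_le_mul (by norm_num) (Nat.le_mul_of_pos_left _ (by omega))
        _ = 6 * q ^ 4 := by ring
    exact (Nat.le_mul_of_pos_right _ (by omega)).trans (h1.trans h2)
  · right; right; right
    obtain ⟨h1, h2⟩ := sub_le hr hcard P
    exact ⟨Nat.card F₀, h1, (hle inf_le_left).trans h2⟩
  · right; left
    have hd := hR'
    obtain ⟨hc, -, a, ha, b, hb, hab⟩ := data27 hR'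
    have h1 := norm_le hc hR'.absIrred ha hb hab
    omega
  · right; left
    have h1 := H951.Rl.card_qsim_le hQ'
    rw [← hqd, Fintype.card_fin, show 3 * (3 - 1) / 2 + 1 = 4 by norm_num] at h1
    exact (hle inf_le_left).trans (h1.trans (Nat.mul_le_mul_right _ (by norm_num)))
  · right; right; left
    obtain ⟨q0, h1, h2⟩ := unit_le hf
    exact ⟨q0, h1, h2⟩
  · right; left
    have h1 : Nat.card H ≤ 4320 := by
      obtain ⟨P, p, hP, -, -, ⟨⟨e⟩, -⟩ | ⟨⟨e⟩, -⟩⟩ := S5776.result H hH hres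
      · exact (Nat.le_of_dvd (by norm_num) (H895.SLT.card_of_l hP hH.1.le e)).trans (by norm_num)
      · exact Nat.le_of_dvd (by norm_num) (H895.SLT.card_of_a hP hH.1.le e)
    omega

end ord

end Cfsg.Agent.H910.Rl
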